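import Mathlib
import Cfsg.Agent.Lib.Lead.Ami.Defs

/-!
# Project AMI (S4294), package [THUE]

A prime `l ≡ 3 (mod 20)` satisfies `2 l = r² + 5 e²`.

`-5` is a square modulo `l` (quadratic reciprocity), Thue's pigeonhole gives `(u, v) ≠ 0` with
`|u|, |v| ≤ √l` and `l ∣ u² + 5 v²`, so `u² + 5 v² = n l` with `1 ≤ n ≤ 5`; the cases
`n = 1, 4, 5` are impossible modulo `5` / `4`, `n = 2` is the claim and `n = 3` is converted.
-/

namespace Cfsg.Agent.Lib.Helper51.Ami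

theorem ami_sq_emod (u n : ℤ) : u ^ 2 % n = (u % n) ^ 2 % n :=
  ((Int.mod_modEq u n).pow 2).symm

theorem ami_sq_mod_five (u : ℤ) : u ^ 2 % 5 = 0 ∨ u ^ 2 % 5 = 1 ∨ u ^ 2 % 5 = 4 := by
  have h : u % 5 = 0 ∨ u % 5 = 1 ∨ u % 5 = 2 ∨ u % 5 = 3 ∨ u % 5 = 4 := by omega
  have e := ami_sq_emod u 5
  rcases h with h | h | h | h | h <;> rw [h] at e <;> norm_num at e <;> omega

theorem ami_sq_mod_five_zero (u : ℤ) (h0 : u ^ 2 % 5 = 0) : u % 5 = 0 := by
  have h : u % 5 = 0 ∨ u % 5 = 1 ∨ u % 5 = 2 ∨ u % 5 = 3 ∨ u % 5 = 4 := by omega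
  have e := ami_sq_emod u 5
  rcases h with h | h | h | h | h <;> rw [h] at e <;> norm_num at e <;> omega

theorem ami_sq_mod_four (u : ℤ) :
    (u ^ 2 % 4 = 0 ∧ u % 2 = 0) ∨ (u ^ 2 % 4 = 1 ∧ u % 2 = 1) := by
  have h : u % 4 = 0 ∨ u % 4 = 1 ∨ u % 4 = 2 ∨ u % 4 = 3 := by omega
  have e := ami_sq_emod u 4
  rcases h with h | h | h | h <;> rw [h] at e <;> norm_num at e <;> omega

theorem ami_three_case (u v L : ℤ) (h : u ^ 2 + 5 * v ^ 2 = 3 * L) :
    (u - v) % 3 = 0 ∨ (u + v) % 3 = 0 := by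
  have hu : u % 3 = 0 ∨ u % 3 = 1 ∨ u % 3 = 2 := by omega
  have hv : v % 3 = 0 ∨ v % 3 = 1 ∨ v % 3 = 2 := by omega
  have eu := ami_sq_emod u 3
  have ev := ami_sq_emod v 3
  rcases hu with hu | hu | hu <;> rcases hv with hv | hv | hv <;> rw [hu] at eu <;>
    rw [hv] at ev <;> norm_num at eu ev <;> omega

/-- no solution of `u² + 5 v² = L` when `L ≡ 3 (mod 5)`. -/
theorem ami_no_one (u v L : ℤ) (hL : L % 5 = 3) (h : u ^ 2 + 5 * v ^ 2 = L) : False := by
  have h1 := ami_sq_mod_five u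
  omega

theorem ami_three_not_sq : ¬ IsSquare (3 : ZMod 5) := by decide

/-- `-5` is a square modulo a prime `l ≡ 3 (mod 20)`. -/
theorem ami_neg_five_isSquare (l : ℕ) [hl : Fact l.Prime] (h20 : l % 20 = 3) :
    IsSquare (-5 : ZMod l) := by
  have hl2 : l ≠ 2 := by rintro rfl; omega
  have hl5 : l ≠ 5 := by rintro rfl; omega
  have : Fact (Nat.Prime 5) := ⟨by norm_num⟩
  have h5 : ¬ IsSquare ((5 : ℕ) : ZMod l) := by
    rw [← ZMod.exists_sq_eq_prime_iff_of_mod_four_eq_one (p := 5) (q := l) (by norm_num) hl2]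
    have h3 : ((l : ℕ) : ZMod 5) = 3 := by
      have : l % 5 = 3 := by omega
      rw [← ZMod.natCast_mod, this]; rfl
    rw [h3]; exact ami_three_not_sq
  have hm1 : ¬ IsSquare (-1 : ZMod l) := by
    rw [ZMod.exists_sq_eq_neg_one_iff]; omega
  have hne5 : ((5 : ℕ) : ZMod l) ≠ 0 := by
    intro h
    rw [ZMod.natCast_eq_zero_iff] at h
    have := (Nat.prime_dvd_prime_iff_eq hl.out (by norm_num)).mp h
    exact hl5 this
  have e1 : quadraticChar (ZMod l) (-1) = -1 := quadraticChar_neg_one_iff_not_isSquare.mpr hm1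
  have e5 : quadraticChar (ZMod l) ((5 : ℕ) : ZMod l) = -1 :=
    quadraticChar_neg_one_iff_not_isSquare.mpr h5
  have e : (-5 : ZMod l) = (-1) * ((5 : ℕ) : ZMod l) := by push_cast; ring
  have hneg5 : (-5 : ZMod l) ≠ 0 := by
    rw [e]; exact mul_ne_zero (neg_ne_zero.mpr one_ne_zero) hne5
  rw [← quadraticChar_one_iff_isSquare hneg5, e, map_mul, e1, e5]; norm_num

/-- **[THUE]** a prime `l ≡ 3 (mod 20)` satisfies `2 l = r² + 5 e²`. -/
theorem pkgThue : Cfsg.Agent.Lib.Lead.Ami.PkgThue := by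
  intro l hl h20
  have : Fact l.Prime := ⟨hl⟩
  obtain ⟨k, hk⟩ := ami_neg_five_isSquare l h20
  have hm1 : l < (Nat.sqrt l + 1) * (Nat.sqrt l + 1) := Nat.lt_succ_sqrt l
  have hm2 : Nat.sqrt l * Nat.sqrt l ≤ l := Nat.sqrt_le l
  have hm3 : Nat.sqrt l * Nat.sqrt l ≠ l := by
    intro h
    rcases (Nat.Prime.eq_one_or_self_of_dvd hl (Nat.sqrt l) (Dvd.intro _ h)) with h1 | h1
    · rw [h1] at h; have := hl.two_le; omega
    · rw [h1] at h; have := hl.two_le; nlinarith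
  generalize Nat.sqrt l = m at hm1 hm2 hm3
  have hc : (Finset.univ : Finset (ZMod l)).card
      < (Finset.range (m + 1) ×ˢ Finset.range (m + 1)).card := by
    rw [Finset.card_univ, ZMod.card, Finset.card_product, Finset.card_range]; exact hm1
  obtain ⟨x, hx, y, hy, hxy, hf⟩ := Finset.exists_ne_map_eq_of_card_lt_of_maps_to hc
    (f := fun ab : ℕ × ℕ => (ab.1 : ZMod l) - k * (ab.2 : ZMod l)) (fun _ _ => Finset.mem_univ _)
  rw [Finset.mem_product, Finset.mem_range, Finset.mem_range] at hx hy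
  obtain ⟨u, hu⟩ : ∃ u : ℤ, u = (x.1 : ℤ) - (y.1 : ℤ) := ⟨_, rfl⟩
  obtain ⟨v, hv⟩ : ∃ v : ℤ, v = (x.2 : ℤ) - (y.2 : ℤ) := ⟨_, rfl⟩
  have huv : ((u : ℤ) : ZMod l) = k * ((v : ℤ) : ZMod l) := by
    rw [hu, hv]; push_cast
    have hf' : (x.1 : ZMod l) - k * (x.2 : ZMod l) = (y.1 : ZMod l) - k * (y.2 : ZMod l) := hf
    linear_combination hf'
  have hdvd : ((l : ℕ) : ℤ) ∣ u ^ 2 + 5 * v ^ 2 := by
    rw [← ZMod.intCast_zmod_eq_zero_iff_dvd]
    push_cast
    rw [huv]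
    linear_combination (-((v : ℤ) : ZMod l) ^ 2) * hk
  obtain ⟨n, hn⟩ := hdvd
  have hLpos : (0 : ℤ) < (l : ℤ) := by exact_mod_cast hl.pos
  have hL5 : (l : ℤ) % 5 = 3 := by omega
  have hmm : ((m : ℤ)) ^ 2 < (l : ℤ) := by
    have : m * m < l := lt_of_le_of_ne hm2 hm3
    have h2 : ((m * m : ℕ) : ℤ) < (l : ℤ) := by exact_mod_cast this
    push_cast at h2; nlinarith
  have hu2 : u ^ 2 ≤ (m : ℤ) ^ 2 := by
    apply sq_le_sq' <;> · rw [hu]; omega
  have hv2 : v ^ 2 ≤ (m : ℤ) ^ 2 := by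
    apply sq_le_sq' <;> · rw [hv]; omega
  have hpos : 0 < u ^ 2 + 5 * v ^ 2 := by
    by_contra hcon
    have hu0 : u = 0 := by
      by_contra h0
      have := lt_of_le_of_ne (sq_nonneg u) (Ne.symm (pow_ne_zero 2 h0))
      nlinarith [sq_nonneg v]
    have hv0 : v = 0 := by
      by_contra h0
      have := lt_of_le_of_ne (sq_nonneg v) (Ne.symm (pow_ne_zero 2 h0))
      nlinarith [sq_nonneg u]
    apply hxy
    apply Prod.ext <;> omega
  have hn0 : 0 < n := by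
    by_contra h
    have h := not_lt.mp h
    nlinarith [mul_nonneg hLpos.le (neg_nonneg.mpr h)]
  have hn6 : n < 6 := by
    by_contra h
    have h := not_lt.mp h
    nlinarith [mul_le_mul_of_nonneg_left h hLpos.le]
  interval_cases n
  · exact (ami_no_one u v (l : ℤ) hL5 (by linarith)).elim
  · exact ⟨u, v, by linarith⟩
  · rcases ami_three_case u v (l : ℤ) (by linarith) with h3 | h3
    · obtain ⟨e, he⟩ := Int.dvd_of_emod_eq_zero h3
      have hu' : u = v + 3 * e := by linarith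
      subst hu'
      refine ⟨e + 2 * v, e, ?_⟩
      have h3' : 3 * ((e + 2 * v) ^ 2 + 5 * e ^ 2) = 3 * (2 * (l : ℤ)) := by
        linear_combination 2 * hn
      exact mul_left_cancel₀ (by norm_num) h3'
    · obtain ⟨e, he⟩ := Int.dvd_of_emod_eq_zero h3
      have hu' : u = 3 * e - v := by linarith
      subst hu'
      refine ⟨e - 2 * v, e, ?_⟩
      have h3' : 3 * ((e - 2 * v) ^ 2 + 5 * e ^ 2) = 3 * (2 * (l : ℤ)) := by
        linear_combination 2 * hn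
      exact mul_left_cancel₀ (by norm_num) h3'
  · exfalso
    have hu4 := ami_sq_mod_four u
    have hv4 := ami_sq_mod_four v
    have hu2' : u % 2 = 0 := by omega
    have hv2' : v % 2 = 0 := by omega
    obtain ⟨a, rfl⟩ := Int.dvd_of_emod_eq_zero hu2'
    obtain ⟨b, rfl⟩ := Int.dvd_of_emod_eq_zero hv2'
    exact ami_no_one a b (l : ℤ) hL5 (by nlinarith)
  · exfalso
    have hu5 : u % 5 = 0 := ami_sq_mod_five_zero u (by omega)
    obtain ⟨a, rfl⟩ := Int.dvd_of_emod_eq_zero hu5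
    have h' : 5 * a ^ 2 + v ^ 2 = (l : ℤ) := by nlinarith
    have h1 := ami_sq_mod_five v
    omega

end Cfsg.Agent.Lib.Helper51.Ami
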